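import Groth.Agent.CurvSt.K739.SpStack
import Groth.Agent.CurvSt.K902.SliceFam
import Groth.Agent.AlgSt.K734.Props
import Groth.Agent.AlgSp.K627.FpqcLocPInst
import Groth.Agent.Gerb.K894.Loc
import Groth.Agent.Stk.K751.FF
import Groth.Agent.S10529
import Groth.Agent.S10536
import Groth.Agent.S10138

/-!
# The stack of all pointed curves is an fppf stack (helper739)

* `K739.CurvesStack.isCurveFam_of_hom` : `IsCurveFam` is stable under base change.
* `K739.CurvesStack.isLocalOnBase_dimWith`, `isCurveFam_of_fam`, `isCurveFam_of_sieve` : it is fppf local on the base.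
* `K739.CurvesStack.isStack_curves (S) (n) : Stk.IsStack (QuotSh.J Scheme.fppfPrecoverage S) (CurvSt.Curves S n)`.
-/

set_option autoImplicit false
set_option linter.unusedVariables false
set_option backward.isDefEq.respectTransparency false
set_option backward.isDefEq.respectTransparency.types false

universe w v u

open CategoryTheory CategoryTheory.Limits AlgebraicGeometry
open AlgSt AlgSp CurvSt K744

namespace K739.CurvesStack

variable {S : Scheme.{u}} {n : ℕ}

/-! ### relative dimension is fpqc local on the base -/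

theorem dimWith_respectsIso (R : WithBot ℕ∞ → Prop) : (K901.SchFib.DimWith.{u} R).RespectsIso :=
  MorphismProperty.IsStableUnderBaseChange.respectsIso

instance zarTarget_dimWith (R : WithBot ℕ∞ → Prop) : IsZariskiLocalAtTarget (K901.SchFib.DimWith.{u} R) := by
  have := dimWith_respectsIso.{u} R
  refine IsZariskiLocalAtTarget.mk' (fun {X Y} f U h => ?_) (fun {X Y} f ι U hU h => ⟨?_, fun x => ?_⟩)
  · exact MorphismProperty.of_isPullback (isPullback_morphismRestrict f U).flip h
  · exact IsZariskiLocalAtTarget.of_iSup_eq_top U hU fun i => (h i).1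
  · have hx : f x ∈ (⨆ i, U i : Y.Opens) := by rw [hU]; trivial
    obtain ⟨i, hi⟩ := TopologicalSpace.Opens.mem_iSup.1 hx
    have hf : LocallyOfFiniteType f := IsZariskiLocalAtTarget.of_iSup_eq_top U hU fun i => (h i).1
    have h1 := (h i).2 ⟨x, hi⟩
    have h2 := Groth.Agent.Ega4fib.H172.FibDimBC.fibreDimAt_of_isPullback (isPullback_morphismRestrict f (U i)).flip ⟨x, hi⟩
    rw [h2] at h1
    exact h1

theorem lft_descends : MorphismProperty.DescendsAlong (C := Scheme.{u}) @LocallyOfFiniteType K627.FpqcRep.Fpqc.{u} :=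
  inferInstance

instance descends_dimWith (R : WithBot ℕ∞ → Prop) :
    (K901.SchFib.DimWith.{u} R).DescendsAlong K627.FpqcRep.Fpqc.{u} where
  of_isPullback {A X Y Z fst snd f g} sq hf hg := by
    have h1 : LocallyOfFiniteType g :=
      MorphismProperty.of_isPullback_of_descendsAlong (P := @LocallyOfFiniteType) (Q := K627.FpqcRep.Fpqc.{u}) sq hf hg.1
    refine ⟨h1, fun y => ?_⟩
    have h2 : Surjective snd := MorphismProperty.of_isPullback (P := @Surjective) sq hf.1.1
    obtain ⟨a, rfl⟩ := h2.surj y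
    rw [← Groth.Agent.Ega4fib.H172.FibDimBC.fibreDimAt_of_isPullback sq.flip a]
    exact hg.2 a

theorem isLocalOnBase_dimWith (R : WithBot ℕ∞ → Prop) (S : Scheme.{u}) :
    IsLocalOnBase (IsFpqcCover (S := S)) (LocP (K901.SchFib.DimWith.{u} R)) :=
  K627.FpqcLocP.isLocalOnBase_fpqc_locP (K901.SchFib.etLoc_dimWith R) S

/-! ### base change and fppf locality of families of curves -/

theorem isCurveFam_of_isPullback {X G X' G' : Sp S} {f : X ⟶ G} {f' : X' ⟶ G'} {top : X' ⟶ X} {b : G' ⟶ G}
    (hX : IsAlgSpace X) (hG : IsAlgSpace G) (hG' : IsAlgSpace G') (sq : IsPullback top f' f b)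
    (h : K902.Slice.CurveMor f) : IsAlgSpace X' ∧ K902.Slice.CurveMor f' :=
  ⟨K608.Comp.isAlgSpace_of_isPullback sq hX hG' hG, h.of_isPullback hX hG hG' sq⟩

theorem isCurveFam_iff (A : SpFamObj S n) : IsCurveFam A ↔ IsAlgSpace A.X ∧ K902.Slice.CurveMor A.f :=
  ⟨fun h => ⟨h.1, K902.Slice.curveMor_of_isCurveFam h⟩, fun h => ⟨h.1, h.2.flat, h.2.proper, h.2.fp, h.2.dim⟩⟩

/-- Families of curves are stable under base change. -/
theorem isCurveFam_of_hom {A B : SpFamObj S n} (φ : B ⟶ A) (hA : IsCurveFam A) : IsCurveFam B := by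
  rw [isCurveFam_iff] at hA ⊢
  exact isCurveFam_of_isPullback hA.1 (IsAlgSpace.yon_obj _) (IsAlgSpace.yon_obj _) φ.cart hA.2

/-- `CurveMor` is fppf local on the base. -/
theorem curveMor_of_cover {ι : Type u} {Y : Sp S} {Yi : ι → Sp S} {g : ∀ i, Yi i ⟶ Y} (hY : IsAlgSpace Y)
    (hYi : ∀ i, IsAlgSpace (Yi i)) (hg : IsFppfCover Yi g) {X : Sp S} {f : X ⟶ Y} (hX : IsAlgSpace X)
    {Xi : ι → Sp S} {p : ∀ i, Xi i ⟶ Yi i} {q : ∀ i, Xi i ⟶ X} (hXi : ∀ i, IsAlgSpace (Xi i))
    (sq : ∀ i, IsPullback (q i) (p i) f (g i)) (h : ∀ i, K902.Slice.CurveMor (p i)) : K902.Slice.CurveMor f := by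
  have hc : IsFpqcCover Yi g := K734.Rep.isFpqcCover_of_isFppfCover hY hYi hg
  have h1 : LocP @Flat f := (K627.FpqcLocPInst.flat S Yi g hY hYi hc f hX Xi p q hXi sq).2 fun i => (h i).flat
  have h2 : IsProperMor f := (Groth.Agent.S10536.result S Yi g hY hYi hc f hX Xi p q hXi sq).2 fun i => (h i).proper
  have h3 : IsFinitePresentationMor f :=
    (Groth.Agent.S10529.result S Yi g hY hYi hc f hX Xi p q hXi sq).2 fun i => (h i).fp
  refine ⟨h1, h2, h3, ?_⟩
  rw [K902.Slice.relDimLE_iff hX hY h2.2.1.1]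
  refine (isLocalOnBase_dimWith _ S Yi g hY hYi hc f hX Xi p q hXi sq).2 fun i => ?_
  exact (K902.Slice.relDimLE_iff (hXi i) (hYi i) (h i).proper.2.1.1 1).1 (h i).dim

/-- Families of curves are fppf local on the base, in terms of a covering family and arbitrary lifts. -/
theorem isCurveFam_of_fam {A : SpFamObj S n} {ι : Type u} {V : ι → Over S} {g : ∀ i, V i ⟶ A.base}
    (hg : K594.Cover.Fam g) (B : ι → SpFamObj S n) (φ : ∀ i, B i ⟶ A) (e : ∀ i, (B i).base = V i)
    (he : ∀ i, (φ i).base = eqToHom (e i) ≫ g i) (h : ∀ i, IsCurveFam (B i)) : IsCurveFam A := by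
  obtain rfl : (fun i => (B i).base) = V := funext e
  obtain rfl : (fun i => (φ i).base) = g := funext fun i => by
    rw [he i]
    simp
  have hc : IsFppfCover (fun i => (yon S).obj (B i).base) (fun i => (yon S).map (φ i).base) :=
    K894.Loc.isFppfCover_of_fam hg
  have hX : IsAlgSpace A.X := by
    refine Groth.Agent.S10138.result S ⟨(yon S).obj A.base, IsAlgSpace.yon_obj _⟩
      (fun i => ⟨(yon S).obj (B i).base, IsAlgSpace.yon_obj _⟩) _ hc A.X A.f (fun i P fst snd sq => ?_)
    exact (h i).1.of_iso ((φ i).cart.isoIsPullback _ _ sq)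
  rw [isCurveFam_iff]
  exact ⟨hX, curveMor_of_cover (IsAlgSpace.yon_obj _) (fun i => IsAlgSpace.yon_obj _) hc hX
    (fun i => (h i).1) (fun i => (φ i).cart) fun i => K902.Slice.curveMor_of_isCurveFam (h i)⟩

/-- Families of curves are fppf local on the base. -/
theorem isCurveFam_of_sieve {A : SpFamObj S n} {R : Sieve A.base} (hR : R ∈ J S A.base)
    (h : ∀ (B : SpFamObj S n) (φ : B ⟶ A), R φ.base → IsCurveFam B) : IsCurveFam A := by
  obtain ⟨ι, V, g, hg, hRg⟩ := K594.Cover.exists_fam_of_mem hR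
  exact isCurveFam_of_fam hg (fun i => SpStack.bc A (g i)) (fun i => SpStack.bcHom A (g i)) (fun i => rfl)
    (fun i => (Category.id_comp _).symm) (fun i => h _ (SpStack.bcHom A (g i)) (hRg i))

variable (S n) in
/-- **The stack of all pointed curves is a stack for the fppf topology.** -/
theorem isStack_curves : Stk.IsStack (QuotSh.J Scheme.fppfPrecoverage S) (Curves S n) := by
  refine K751.FF.isStack_sub (Q := IsCurveFam) (SpStack.isStack_spFam S n) ?_ ?_
  · intro y x φ hx
    exact ⟨y, Iso.refl _, isCurveFam_of_hom φ hx, by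
      have : (SpFam S n).p.IsHomLift (𝟙 ((SpFam S n).p.obj y)) (𝟙 y) := IsHomLift.id rfl
      exact this⟩
  · intro U R hR x hx h
    subst hx
    refine ⟨x, Iso.refl _, isCurveFam_of_sieve hR (fun B φ hφ => ?_), by
      have : (SpFam S n).p.IsHomLift (𝟙 ((SpFam S n).p.obj x)) (𝟙 x) := IsHomLift.id rfl
      exact this⟩
    obtain ⟨y', e, hy', -⟩ := h φ.base hφ B φ (IsHomLift.map (SpFam S n).p φ)
    exact isCurveFam_of_hom e.hom hy'

end K739.CurvesStack
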