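import Groth.Prelude.Def_StCurv2
import Groth.Agent.AlgSt.K744.SpCar
import Groth.Agent.AlgSt.K735.Fib
import Groth.Agent.Stk.K751.Test

/-!
# The category of pointed families of sheaves is an fppf stack (helper739)

* `K739.SpStack.isFibGrpd` : `CurvSt.SpFam S n` is fibred in groupoids; `bc`, `bcHom` the base change of an object.
* `K739.SpStack.isStack_spFam (S) (n) : Stk.IsStack (QuotSh.J Scheme.fppfPrecoverage S) (CurvSt.SpFam S n)`.
-/

set_option autoImplicit false
set_option linter.unusedVariables false
set_option backward.isDefEq.respectTransparency false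
set_option backward.isDefEq.respectTransparency.types false

universe w v u

open CategoryTheory CategoryTheory.Limits AlgebraicGeometry
open AlgSt AlgSp CurvSt K744

namespace K739.SpStack

variable {S : Scheme.{u}} {n : ℕ}

/-! ### fibred in groupoids -/

/-- the base change of a family -/
noncomputable def bc (A : SpFamObj S n) {V : Over S} (f : V ⟶ A.base) : SpFamObj S n where
  base := V
  X := pullback A.f ((yon S).map f)
  f := pullback.snd A.f ((yon S).map f)
  sect i := pullback.lift ((yon S).map f ≫ A.sect i) (𝟙 _) (by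
    rw [Category.assoc, A.sect_f, Category.comp_id, Category.id_comp])
  sect_f i := pullback.lift_snd _ _ _

/-- the projection from the base change -/
noncomputable def bcHom (A : SpFamObj S n) {V : Over S} (f : V ⟶ A.base) : bc A f ⟶ A where
  base := f
  top := pullback.fst A.f ((yon S).map f)
  cart := IsPullback.of_hasPullback _ _
  w_sect i := pullback.lift_fst _ _ _

/-- Every arrow of `SpFam` is strongly cartesian. -/
theorem isStronglyCartesian {A C : SpFamObj S n} (φ : A ⟶ C) :
    (SpFamObj.forget S n).IsStronglyCartesian ((SpFamObj.forget S n).map φ) φ where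
  universal_property' := fun {A'} g ψ hψ => by
    have hb : g ≫ φ.base = ψ.base :=
      IsHomLift.eq_of_isHomLift (SpFamObj.forget S n) (g ≫ (SpFamObj.forget S n).map φ) ψ
    have hbb : (yon S).map g ≫ (yon S).map φ.base = (yon S).map ψ.base := by
      rw [← Functor.map_comp, hb]
    have hw : ψ.top ≫ C.f = (A'.f ≫ (yon S).map g) ≫ (yon S).map φ.base := by
      rw [ψ.cart.w, Category.assoc, hbb]
    let t : A'.X ⟶ A.X := φ.cart.lift ψ.top (A'.f ≫ (yon S).map g) hw
    have ht1 : t ≫ φ.top = ψ.top := φ.cart.lift_fst _ _ _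
    have ht2 : t ≫ A.f = A'.f ≫ (yon S).map g := φ.cart.lift_snd _ _ _
    let χ : A' ⟶ A :=
      { base := g
        top := t
        cart := by
          apply IsPullback.of_right (h₁₂ := φ.top) (h₂₂ := (yon S).map φ.base) (v₁₃ := C.f) _ ht2 φ.cart
          rw [ht1, hbb]
          exact ψ.cart
        w_sect := fun i => by
          apply φ.cart.hom_ext
          · rw [Category.assoc, ht1, ψ.w_sect, Category.assoc, φ.w_sect, ← Category.assoc, hbb]
          · rw [Category.assoc, ht2, ← Category.assoc, A'.sect_f, Category.id_comp, Category.assoc, A.sect_f,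
              Category.comp_id] }
    refine ⟨χ, ⟨?_, SpFamObj.hom_ext hb ht1⟩, ?_⟩
    · exact IsHomLift.map (SpFamObj.forget S n) χ
    · rintro χ' ⟨hχ', h2⟩
      have hg : g = χ'.base := IsHomLift.eq_of_isHomLift (SpFamObj.forget S n) g χ'
      refine SpFamObj.hom_ext hg.symm ?_
      apply φ.cart.hom_ext
      · rw [ht1, ← h2]; rfl
      · rw [χ'.cart.w, ht2]
        congr 1
        exact congrArg (yon S).map hg.symm

theorem isFibGrpd : FibCat.IsFibGrpd (SpFamObj.forget S n) where
  exists_lift := fun {x} {V} f => ⟨bc x f, bcHom x f, IsHomLift.map (SpFamObj.forget S n) (bcHom x f)⟩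
  isStronglyCartesian := fun φ => isStronglyCartesian φ

/-! ### the cartesian diagram of a descent datum -/

section Dat

variable {U : Over S} {R : Sieve U} (D : Stk.sieveCat R ⥤ᵇ SpFam S n)

/-- the isomorphism between the arrow and the base of the object -/
abbrev eb (i : R.arrows.category) : (D.obj i).base ⟶ i.obj.left := eqToHom (D.w_obj i)

theorem eb_nat {i j : R.arrows.category} (f : i ⟶ j) : (D.map f).base ≫ eb D j = eb D i ≫ f.hom.left := by
  have h := K735.Fib.map_map D f
  change (D.map f).base = eqToHom _ ≫ f.hom.left ≫ eqToHom _ at h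
  rw [h, Category.assoc, Category.assoc, eqToHom_trans, eqToHom_refl, Category.comp_id]

/-- the structure map to the representable of the arrow -/
noncomputable abbrev qq (i : R.arrows.category) : (D.obj i).X ⟶ (yon S).obj i.obj.left :=
  (D.obj i).f ≫ (yon S).map (eb D i)

/-- the sections over the representable of the arrow -/
noncomputable abbrev ss (i : R.arrows.category) (l : Fin n) : (yon S).obj i.obj.left ⟶ (D.obj i).X :=
  (yon S).map (eqToHom (D.w_obj i).symm) ≫ (D.obj i).sect l

theorem eb_ss (i : R.arrows.category) (l : Fin n) : (yon S).map (eb D i) ≫ ss D i l = (D.obj i).sect l := by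
  rw [← Category.assoc, ← CategoryTheory.Functor.map_comp, eqToHom_trans, eqToHom_refl, CategoryTheory.Functor.map_id,
    Category.id_comp]

theorem ss_qq (i : R.arrows.category) (l : Fin n) : ss D i l ≫ qq D i = 𝟙 _ := by
  rw [Category.assoc, ← Category.assoc ((D.obj i).sect l), (D.obj i).sect_f, Category.id_comp,
    ← CategoryTheory.Functor.map_comp, eqToHom_trans, eqToHom_refl, CategoryTheory.Functor.map_id]

theorem qq_cart {i j : R.arrows.category} (f : i ⟶ j) :
    IsPullback (D.map f).top (qq D i) (qq D j) ((yon S).map f.hom.left) := by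
  have h1 := (D.map f).cart
  have h2 : IsPullback ((yon S).map (D.map f).base) ((yon S).map (eb D i)) ((yon S).map (eb D j))
      ((yon S).map f.hom.left) :=
    IsPullback.of_vert_isIso ⟨by rw [← Functor.map_comp, ← Functor.map_comp, eb_nat]⟩
  exact h1.paste_vert h2

theorem ss_nat {i j : R.arrows.category} (f : i ⟶ j) (l : Fin n) :
    ss D i l ≫ (D.map f).top = (yon S).map f.hom.left ≫ ss D j l := by
  have h1 : (D.obj i).sect l ≫ (D.map f).top = (yon S).map (D.map f).base ≫ (D.obj j).sect l := (D.map f).w_sect l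
  have h2 : (yon S).map (eb D i) ≫ ss D i l ≫ (D.map f).top =
      (yon S).map (eb D i) ≫ (yon S).map f.hom.left ≫ ss D j l := by
    rw [← Category.assoc, eb_ss, h1, ← eb_ss D j, ← Category.assoc, ← Functor.map_comp, eb_nat, Functor.map_comp,
      Category.assoc]
  exact (cancel_epi _).1 h2

/-- the cartesian diagram of the total sheaves -/
noncomputable def car : SpCar.Car R where
  F :=
    { obj := fun i => (D.obj i).X
      map := fun {i j} f => (D.map f).top
      map_id := fun i => by
        have h : (D.map (𝟙 i)).top = 𝟙 (D.obj i).X := congrArg SpFamObj.Hom.top (D.map_id i)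
        rw [h]
      map_comp := fun {i j k} f g => by
        have h : (D.map (f ≫ g)).top = (D.map f).top ≫ (D.map g).top := congrArg SpFamObj.Hom.top (D.map_comp f g)
        rw [h] }
  q i := qq D i
  cart {i j} f := qq_cart D f

end Dat

/-- the cartesian square of a morphism out of `D i`, over the arrow `i` -/
theorem cart_of_hom {U : Over S} {R : Sieve U} {D : Stk.sieveCat R ⥤ᵇ SpFam S n} {i : R.arrows.category}
    {Y : SpFamObj S n} (θ : D.obj i ⟶ Y) (h : i.obj.left ⟶ Y.base) (hθ : θ.base = eb D i ≫ h) :
    IsPullback θ.top (qq D i) Y.f ((yon S).map h) := by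
  have h1 := θ.cart
  have h2 : IsPullback ((yon S).map θ.base) ((yon S).map (eb D i)) (𝟙 _) ((yon S).map h) :=
    IsPullback.of_vert_isIso ⟨by rw [← Functor.map_comp, ← hθ, Category.comp_id]⟩
  have h3 := h1.paste_vert h2
  have e : Y.f ≫ 𝟙 ((yon S).obj Y.base) = Y.f := Category.comp_id _
  rw [e] at h3
  exact h3

section Prestack

variable (A : SpFamObj S n)

/-- the functor `(Sch/U) ⟶ SpFam` of an object over `U`, restricted to a sieve -/
noncomputable abbrev resYo (R : Sieve A.base) : Stk.sieveCat R ⥤ᵇ SpFam S n :=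
  BasedFunctor.comp (Stk.sieveIncl R) (K751.Test.yo (𝒳 := SpFam S n) isFibGrpd A rfl)

noncomputable abbrev ιYo (R : Sieve A.base) (i : R.arrows.category) : (resYo A R).obj i ⟶ A :=
  K751.Test.yoε (𝒳 := SpFam S n) isFibGrpd A rfl i.obj

theorem ιYo_base (R : Sieve A.base) (i : R.arrows.category) : (ιYo A R i).base = eb (resYo A R) i ≫ i.obj.hom := by
  have h1 := K751.Test.yoε_lift (𝒳 := SpFam S n) isFibGrpd A rfl i.obj
  have h2 := IsHomLift.fac' (SpFam S n).p i.obj.hom (ιYo A R i)
  change (ιYo A R i).base = _ at h2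
  rw [h2]
  simp only [eqToHom_refl, Category.comp_id]

theorem ιYo_nat (R : Sieve A.base) {i j : R.arrows.category} (f : i ⟶ j) :
    (resYo A R).map f ≫ ιYo A R j = ιYo A R i :=
  K751.Test.yo_map_yoε (𝒳 := SpFam S n) isFibGrpd A rfl f.hom

/-- the object `A` as descended from its restrictions -/
noncomputable def desYo (R : Sieve A.base) : SpCar.Des (car (resYo A R)) where
  pt := A.X
  q := A.f
  c i := (ιYo A R i).top
  nat f := congrArg SpFamObj.Hom.top (ιYo_nat A R f)
  cart i := cart_of_hom _ _ (ιYo_base A R i)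

theorem glueFrom (R : Sieve A.base) (hR : R ∈ J S A.base) :
    K751.Test.GlueFrom (SpFam S n).p A R := by
  intro y g φ hφ cφ
  let E := desYo A R
  have hmem : ∀ i : R.arrows.category, R ((SpFam S n).p.map (ιYo A R i)) := fun i => by
    change R (ιYo A R i).base
    rw [ιYo_base]
    exact R.downward_closed i.property _
  have φ_congr : ∀ {z : (SpFam S n).obj} {a a' : z ⟶ A} (e : a = a') (h : R ((SpFam S n).p.map a))
      (h' : R ((SpFam S n).p.map a')), φ a h = φ a' h' := by
    intro z a a' e h h'
    subst e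
    rfl
  let k : ∀ i : R.arrows.category, (resYo A R).obj i ⟶ y := fun i => φ (ιYo A R i) (hmem i)
  have hkb : ∀ i, (k i).base = eb (resYo A R) i ≫ i.obj.hom ≫ g := fun i => by
    have h := hφ (ιYo A R i) (hmem i)
    change (k i).base = (ιYo A R i).base ≫ g at h
    rw [h, ιYo_base, Category.assoc]
  have hknat : ∀ {i j : R.arrows.category} (f : i ⟶ j), (resYo A R).map f ≫ k j = k i := by
    intro i j f
    have h1 : R ((SpFam S n).p.map ((resYo A R).map f ≫ ιYo A R j)) := by
      rw [ιYo_nat]; exact hmem i
    have h2 := cφ ((resYo A R).map f) (ιYo A R j) (hmem j) h1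
    exact h2.symm.trans (φ_congr (ιYo_nat A R f) h1 (hmem i))
  obtain ⟨m, hm⟩ := E.exists_hom hR (fun i => (k i).top) (fun f => congrArg SpFamObj.Hom.top (hknat f))
  have hm' : ∀ i, (ιYo A R i).top ≫ m = (k i).top := hm
  have hw : m ≫ y.f = A.f ≫ (yon S).map g := by
    refine E.hom_ext hR (fun i => ?_)
    change (ιYo A R i).top ≫ _ = (ιYo A R i).top ≫ _
    rw [← Category.assoc, hm', (k i).cart.w, ← Category.assoc, (ιYo A R i).cart.w, Category.assoc]
    congr 1
    rw [← Functor.map_comp, hkb, ιYo_base, Category.assoc]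
  have hcart : IsPullback m A.f y.f ((yon S).map g) := by
    refine SpCar.isPullback_of_jSurj hw (SpCar.jSurj_yon hR)
      (P' := fun i => ((resYo A R).obj i).X) (c := fun i => (ιYo A R i).top) (fun i => E.cart i) (fun i => ?_)
    have h1 := cart_of_hom (k i) (i.obj.hom ≫ g) (hkb i)
    rw [Functor.map_comp] at h1
    rw [hm']
    exact h1
  have hsec : ∀ l, A.sect l ≫ m = (yon S).map g ≫ y.sect l := by
    intro l
    refine (SpCar.jSurj_yon hR).ext (fun i => ?_)
    have h1 := (ιYo A R i).w_sect l
    have h2 := (k i).w_sect l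
    rw [ιYo_base, Functor.map_comp, Category.assoc] at h1
    rw [hkb, Functor.map_comp, Functor.map_comp, Category.assoc, Category.assoc, ← hm', ← Category.assoc, h1,
      Category.assoc, Category.assoc, cancel_epi] at h2
    exact h2
  let ψ : A ⟶ y := { base := g, top := m, cart := hcart, w_sect := hsec }
  have hψ : ∀ i, ιYo A R i ≫ ψ = k i := fun i =>
    SpFamObj.hom_ext (by rw [SpFamObj.comp_base, hkb, ιYo_base, Category.assoc]) (hm' i)
  refine ⟨ψ, ⟨rfl, fun z a ha => ?_⟩, ?_⟩
  · let o : R.arrows.category := K751.Test.mkS ((SpFam S n).p.map a) ha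
    obtain ⟨χ, hχ, eχ⟩ := K751.FG.exists_factor (p := (SpFam S n).p) isFibGrpd (𝟙 ((SpFam S n).p.obj z))
      (Category.id_comp ((SpFam S n).p.map a)) (ιYo A R o) a
      (K751.Test.yoε_lift (𝒳 := SpFam S n) isFibGrpd A rfl o.obj) inferInstance
    have h1 : R ((SpFam S n).p.map (χ ≫ ιYo A R o)) := by rw [eχ]; exact ha
    have h2 := cφ χ (ιYo A R o) (hmem o) h1
    rw [← φ_congr eχ h1 ha, h2]
    change a ≫ ψ = χ ≫ k o
    rw [← hψ o, ← Category.assoc, eχ]
  · rintro ψ' ⟨h1, h2⟩
    refine SpFamObj.hom_ext h1 (E.hom_ext hR (fun i => ?_))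
    have h3 := congrArg SpFamObj.Hom.top (h2 (ιYo A R i) (hmem i))
    exact h3.trans (hm' i).symm

end Prestack

theorem exists_eff {U : Over S} {R : Sieve U} (hR : R ∈ J S U) (D : Stk.sieveCat R ⥤ᵇ SpFam S n) :
    Nonempty (K751.Test.Eff D) := by
  obtain ⟨E⟩ := SpCar.exists_des (car D)
  have hc : ∀ i, E.c i ≫ E.q = qq D i ≫ (yon S).map i.obj.hom := fun i => (E.cart i).w
  have hsec : ∀ l : Fin n, ∃ s : (yon S).obj U ⟶ E.pt, ∀ i : R.arrows.category,
      (yon S).map i.obj.hom ≫ s = ss D i l ≫ E.c i := by
    intro l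
    refine (SpCar.jSurj_yon hR).exists_desc (fun i => ss D i l ≫ E.c i) ?_
    have key : ∀ {i j : R.arrows.category} (f : i ⟶ j),
        (yon S).map f.hom.left ≫ ss D j l ≫ E.c j = ss D i l ≫ E.c i := by
      intro i j f
      rw [← Category.assoc, ← ss_nat, Category.assoc]
      congr 1
      exact E.nat f
    intro T i j y y' h
    have e : (yon S).preimage y' ≫ j.obj.hom = (yon S).preimage y ≫ i.obj.hom := by
      apply (yon S).map_injective
      rw [Functor.map_comp, Functor.map_comp, Functor.map_preimage, Functor.map_preimage, h]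
    have h1 := key (SpCar.obHom i ((yon S).preimage y))
    have h2 := key (SpCar.hm i j ((yon S).preimage y) ((yon S).preimage y') e)
    rw [← (yon S).map_preimage y, ← (yon S).map_preimage y']
    exact h1.trans h2.symm
  choose s hs using hsec
  let A : SpFamObj S n :=
    { base := U
      X := E.pt
      f := E.q
      sect := s
      sect_f := fun l => by
        refine (SpCar.jSurj_yon hR).ext (fun i => ?_)
        rw [← Category.assoc, hs, Category.assoc, hc, ← Category.assoc, ss_qq, Category.id_comp, Category.comp_id] }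
  let io : ∀ i : R.arrows.category, D.obj i ⟶ A := fun i =>
    { base := eb D i ≫ i.obj.hom
      top := E.c i
      cart := by
        have h0 : IsPullback ((yon S).map (eb D i ≫ i.obj.hom)) ((yon S).map (eb D i)) (𝟙 _) ((yon S).map i.obj.hom) :=
          IsPullback.of_vert_isIso ⟨by rw [← Functor.map_comp, Category.comp_id]⟩
        refine IsPullback.of_bot (h₃₁ := (yon S).map i.obj.hom) (v₂₁ := (yon S).map (eb D i)) (v₂₂ := 𝟙 _) ?_ ?_ h0
        · have h1 := E.cart i
          have e : E.q ≫ 𝟙 ((yon S).obj U) = E.q := Category.comp_id _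
          change IsPullback (E.c i) (qq D i) (E.q ≫ 𝟙 ((yon S).obj U)) ((yon S).map i.obj.hom)
          rw [e]
          exact h1
        · change E.c i ≫ E.q = (D.obj i).f ≫ (yon S).map (eb D i ≫ i.obj.hom)
          rw [hc, Category.assoc, Functor.map_comp]
      w_sect := fun l => by
        change (D.obj i).sect l ≫ E.c i = (yon S).map (eb D i ≫ i.obj.hom) ≫ s l
        rw [Functor.map_comp, Category.assoc, hs, ← eb_ss D i l, Category.assoc] }
  refine ⟨⟨A, io, fun i => ?_, fun {i j} f => ?_, rfl⟩⟩
  · refine IsHomLift.of_fac' _ _ _ (D.w_obj i) rfl ?_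
    change eb D i ≫ i.obj.hom = _
    simp
  · refine SpFamObj.hom_ext ?_ (E.nat f)
    change (D.map f).base ≫ eb D j ≫ j.obj.hom = eb D i ≫ i.obj.hom
    rw [← Category.assoc, eb_nat, Category.assoc, SpCar.hom_w]

variable (S n) in
/-- **The category of `n`-pointed families of fppf sheaves is a stack in groupoids.** -/
theorem isStack_spFam : Stk.IsStack (QuotSh.J Scheme.fppfPrecoverage S) (SpFam S n) := by
  rw [K751.Test.isStack_iff, K751.Test.isPrestack_iff]
  exact ⟨⟨isFibGrpd, fun x R hR => glueFrom x R hR⟩, fun U R hR D => exists_eff hR D⟩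

end K739.SpStack
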